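import Cfsg.Agent.Lib.Helper40.Out23.Data
set_option autoImplicit false
set_option maxRecDepth 100000
namespace Cfsg.Agent.Lib.Helper40.PE.O23
noncomputable def ck1_p : ℕ → Bool := fun i => ok (Nat.add 1000 i)
theorem ck1_c0 : allB (fun i => ck1_p (Nat.add 0 i)) 100 = true := by decide +kernel
theorem ck1_c1 : allB (fun i => ck1_p (Nat.add 100 i)) 100 = true := by decide +kernel
theorem ck1_c2 : allB (fun i => ck1_p (Nat.add 200 i)) 100 = true := by decide +kernel
theorem ck1_c3 : allB (fun i => ck1_p (Nat.add 300 i)) 100 = true := by decide +kernel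
theorem ck1_c4 : allB (fun i => ck1_p (Nat.add 400 i)) 100 = true := by decide +kernel
theorem ck1_c5 : allB (fun i => ck1_p (Nat.add 500 i)) 100 = true := by decide +kernel
theorem ck1_c6 : allB (fun i => ck1_p (Nat.add 600 i)) 100 = true := by decide +kernel
theorem ck1_c7 : allB (fun i => ck1_p (Nat.add 700 i)) 100 = true := by decide +kernel
theorem ck1_c8 : allB (fun i => ck1_p (Nat.add 800 i)) 100 = true := by decide +kernel
theorem ck1_c9 : allB (fun i => ck1_p (Nat.add 900 i)) 100 = true := by decide +kernel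
theorem ck1_a0 : ∀ u < 0, ck1_p u = true := allB_base
theorem ck1_a1 : ∀ u < 100, ck1_p u = true := allB_extend (p := ck1_p) ck1_a0 ck1_c0
theorem ck1_a2 : ∀ u < 200, ck1_p u = true := allB_extend (p := ck1_p) ck1_a1 ck1_c1
theorem ck1_a3 : ∀ u < 300, ck1_p u = true := allB_extend (p := ck1_p) ck1_a2 ck1_c2
theorem ck1_a4 : ∀ u < 400, ck1_p u = true := allB_extend (p := ck1_p) ck1_a3 ck1_c3
theorem ck1_a5 : ∀ u < 500, ck1_p u = true := allB_extend (p := ck1_p) ck1_a4 ck1_c4
theorem ck1_a6 : ∀ u < 600, ck1_p u = true := allB_extend (p := ck1_p) ck1_a5 ck1_c5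
theorem ck1_a7 : ∀ u < 700, ck1_p u = true := allB_extend (p := ck1_p) ck1_a6 ck1_c6
theorem ck1_a8 : ∀ u < 800, ck1_p u = true := allB_extend (p := ck1_p) ck1_a7 ck1_c7
theorem ck1_a9 : ∀ u < 900, ck1_p u = true := allB_extend (p := ck1_p) ck1_a8 ck1_c8
theorem ck1_a10 : ∀ u < 1000, ck1_p u = true := allB_extend (p := ck1_p) ck1_a9 ck1_c9
theorem ck1 : ∀ u, 1000 ≤ u → u < 2000 → ok u = true := by
  intro u h1 h2
  have h3 := ck1_a10 (u - 1000) (by omega)
  have e : Nat.add 1000 (u - 1000) = u := by show 1000 + (u - 1000) = u; omega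
  unfold ck1_p at h3
  rw [e] at h3; exact h3
end Cfsg.Agent.Lib.Helper40.PE.O23
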