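import Cfsg.Agent.Lib.Helper40.Out23.Data
import Cfsg.Agent.Lib.Helper40.Out23.C6
set_option autoImplicit false
set_option maxRecDepth 100000
namespace Cfsg.Agent.Lib.Helper40.PE.O23
noncomputable def ck14_p : ℕ → Bool := fun i => ok (Nat.add 14000 i)
theorem ck14_c0 : allB (fun i => ck14_p (Nat.add 0 i)) 100 = true := by decide +kernel
theorem ck14_c1 : allB (fun i => ck14_p (Nat.add 100 i)) 100 = true := by decide +kernel
theorem ck14_c2 : allB (fun i => ck14_p (Nat.add 200 i)) 100 = true := by decide +kernel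
theorem ck14_c3 : allB (fun i => ck14_p (Nat.add 300 i)) 100 = true := by decide +kernel
theorem ck14_c4 : allB (fun i => ck14_p (Nat.add 400 i)) 100 = true := by decide +kernel
theorem ck14_c5 : allB (fun i => ck14_p (Nat.add 500 i)) 100 = true := by decide +kernel
theorem ck14_c6 : allB (fun i => ck14_p (Nat.add 600 i)) 100 = true := by decide +kernel
theorem ck14_c7 : allB (fun i => ck14_p (Nat.add 700 i)) 100 = true := by decide +kernel
theorem ck14_c8 : allB (fun i => ck14_p (Nat.add 800 i)) 100 = true := by decide +kernel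
theorem ck14_c9 : allB (fun i => ck14_p (Nat.add 900 i)) 100 = true := by decide +kernel
theorem ck14_a0 : ∀ u < 0, ck14_p u = true := allB_base
theorem ck14_a1 : ∀ u < 100, ck14_p u = true := allB_extend (p := ck14_p) ck14_a0 ck14_c0
theorem ck14_a2 : ∀ u < 200, ck14_p u = true := allB_extend (p := ck14_p) ck14_a1 ck14_c1
theorem ck14_a3 : ∀ u < 300, ck14_p u = true := allB_extend (p := ck14_p) ck14_a2 ck14_c2
theorem ck14_a4 : ∀ u < 400, ck14_p u = true := allB_extend (p := ck14_p) ck14_a3 ck14_c3
theorem ck14_a5 : ∀ u < 500, ck14_p u = true := allB_extend (p := ck14_p) ck14_a4 ck14_c4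
theorem ck14_a6 : ∀ u < 600, ck14_p u = true := allB_extend (p := ck14_p) ck14_a5 ck14_c5
theorem ck14_a7 : ∀ u < 700, ck14_p u = true := allB_extend (p := ck14_p) ck14_a6 ck14_c6
theorem ck14_a8 : ∀ u < 800, ck14_p u = true := allB_extend (p := ck14_p) ck14_a7 ck14_c7
theorem ck14_a9 : ∀ u < 900, ck14_p u = true := allB_extend (p := ck14_p) ck14_a8 ck14_c8
theorem ck14_a10 : ∀ u < 1000, ck14_p u = true := allB_extend (p := ck14_p) ck14_a9 ck14_c9
theorem ck14 : ∀ u, 14000 ≤ u → u < 15000 → ok u = true := by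
  intro u h1 h2
  have h3 := ck14_a10 (u - 14000) (by omega)
  have e : Nat.add 14000 (u - 14000) = u := by show 14000 + (u - 14000) = u; omega
  unfold ck14_p at h3
  rw [e] at h3; exact h3
end Cfsg.Agent.Lib.Helper40.PE.O23
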