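import Cfsg.Agent.Lib.Helper40.Out23.Data
import Cfsg.Agent.Lib.Helper40.Out23.C0
set_option autoImplicit false
set_option maxRecDepth 100000
namespace Cfsg.Agent.Lib.Helper40.PE.O23
noncomputable def ck8_p : ℕ → Bool := fun i => ok (Nat.add 8000 i)
theorem ck8_c0 : allB (fun i => ck8_p (Nat.add 0 i)) 100 = true := by decide +kernel
theorem ck8_c1 : allB (fun i => ck8_p (Nat.add 100 i)) 100 = true := by decide +kernel
theorem ck8_c2 : allB (fun i => ck8_p (Nat.add 200 i)) 100 = true := by decide +kernel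
theorem ck8_c3 : allB (fun i => ck8_p (Nat.add 300 i)) 100 = true := by decide +kernel
theorem ck8_c4 : allB (fun i => ck8_p (Nat.add 400 i)) 100 = true := by decide +kernel
theorem ck8_c5 : allB (fun i => ck8_p (Nat.add 500 i)) 100 = true := by decide +kernel
theorem ck8_c6 : allB (fun i => ck8_p (Nat.add 600 i)) 100 = true := by decide +kernel
theorem ck8_c7 : allB (fun i => ck8_p (Nat.add 700 i)) 100 = true := by decide +kernel
theorem ck8_c8 : allB (fun i => ck8_p (Nat.add 800 i)) 100 = true := by decide +kernel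
theorem ck8_c9 : allB (fun i => ck8_p (Nat.add 900 i)) 100 = true := by decide +kernel
theorem ck8_a0 : ∀ u < 0, ck8_p u = true := allB_base
theorem ck8_a1 : ∀ u < 100, ck8_p u = true := allB_extend (p := ck8_p) ck8_a0 ck8_c0
theorem ck8_a2 : ∀ u < 200, ck8_p u = true := allB_extend (p := ck8_p) ck8_a1 ck8_c1
theorem ck8_a3 : ∀ u < 300, ck8_p u = true := allB_extend (p := ck8_p) ck8_a2 ck8_c2
theorem ck8_a4 : ∀ u < 400, ck8_p u = true := allB_extend (p := ck8_p) ck8_a3 ck8_c3
theorem ck8_a5 : ∀ u < 500, ck8_p u = true := allB_extend (p := ck8_p) ck8_a4 ck8_c4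
theorem ck8_a6 : ∀ u < 600, ck8_p u = true := allB_extend (p := ck8_p) ck8_a5 ck8_c5
theorem ck8_a7 : ∀ u < 700, ck8_p u = true := allB_extend (p := ck8_p) ck8_a6 ck8_c6
theorem ck8_a8 : ∀ u < 800, ck8_p u = true := allB_extend (p := ck8_p) ck8_a7 ck8_c7
theorem ck8_a9 : ∀ u < 900, ck8_p u = true := allB_extend (p := ck8_p) ck8_a8 ck8_c8
theorem ck8_a10 : ∀ u < 1000, ck8_p u = true := allB_extend (p := ck8_p) ck8_a9 ck8_c9
theorem ck8 : ∀ u, 8000 ≤ u → u < 9000 → ok u = true := by
  intro u h1 h2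
  have h3 := ck8_a10 (u - 8000) (by omega)
  have e : Nat.add 8000 (u - 8000) = u := by show 8000 + (u - 8000) = u; omega
  unfold ck8_p at h3
  rw [e] at h3; exact h3
end Cfsg.Agent.Lib.Helper40.PE.O23
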