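import Cfsg.Agent.Lib.Helper40.Out23.Data
set_option autoImplicit false
set_option maxRecDepth 100000
namespace Cfsg.Agent.Lib.Helper40.PE.O23
noncomputable def ck4_p : ℕ → Bool := fun i => ok (Nat.add 4000 i)
theorem ck4_c0 : allB (fun i => ck4_p (Nat.add 0 i)) 100 = true := by decide +kernel
theorem ck4_c1 : allB (fun i => ck4_p (Nat.add 100 i)) 100 = true := by decide +kernel
theorem ck4_c2 : allB (fun i => ck4_p (Nat.add 200 i)) 100 = true := by decide +kernel
theorem ck4_c3 : allB (fun i => ck4_p (Nat.add 300 i)) 100 = true := by decide +kernel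
theorem ck4_c4 : allB (fun i => ck4_p (Nat.add 400 i)) 100 = true := by decide +kernel
theorem ck4_c5 : allB (fun i => ck4_p (Nat.add 500 i)) 100 = true := by decide +kernel
theorem ck4_c6 : allB (fun i => ck4_p (Nat.add 600 i)) 100 = true := by decide +kernel
theorem ck4_c7 : allB (fun i => ck4_p (Nat.add 700 i)) 100 = true := by decide +kernel
theorem ck4_c8 : allB (fun i => ck4_p (Nat.add 800 i)) 100 = true := by decide +kernel
theorem ck4_c9 : allB (fun i => ck4_p (Nat.add 900 i)) 100 = true := by decide +kernel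
theorem ck4_a0 : ∀ u < 0, ck4_p u = true := allB_base
theorem ck4_a1 : ∀ u < 100, ck4_p u = true := allB_extend (p := ck4_p) ck4_a0 ck4_c0
theorem ck4_a2 : ∀ u < 200, ck4_p u = true := allB_extend (p := ck4_p) ck4_a1 ck4_c1
theorem ck4_a3 : ∀ u < 300, ck4_p u = true := allB_extend (p := ck4_p) ck4_a2 ck4_c2
theorem ck4_a4 : ∀ u < 400, ck4_p u = true := allB_extend (p := ck4_p) ck4_a3 ck4_c3
theorem ck4_a5 : ∀ u < 500, ck4_p u = true := allB_extend (p := ck4_p) ck4_a4 ck4_c4
theorem ck4_a6 : ∀ u < 600, ck4_p u = true := allB_extend (p := ck4_p) ck4_a5 ck4_c5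
theorem ck4_a7 : ∀ u < 700, ck4_p u = true := allB_extend (p := ck4_p) ck4_a6 ck4_c6
theorem ck4_a8 : ∀ u < 800, ck4_p u = true := allB_extend (p := ck4_p) ck4_a7 ck4_c7
theorem ck4_a9 : ∀ u < 900, ck4_p u = true := allB_extend (p := ck4_p) ck4_a8 ck4_c8
theorem ck4_a10 : ∀ u < 1000, ck4_p u = true := allB_extend (p := ck4_p) ck4_a9 ck4_c9
theorem ck4 : ∀ u, 4000 ≤ u → u < 5000 → ok u = true := by
  intro u h1 h2
  have h3 := ck4_a10 (u - 4000) (by omega)
  have e : Nat.add 4000 (u - 4000) = u := by show 4000 + (u - 4000) = u; omega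
  unfold ck4_p at h3
  rw [e] at h3; exact h3
end Cfsg.Agent.Lib.Helper40.PE.O23
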