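import Cfsg.Agent.Lib.Helper40.Out23.Data
import Cfsg.Agent.Lib.Helper40.Out23.C23
set_option autoImplicit false
set_option maxRecDepth 100000
namespace Cfsg.Agent.Lib.Helper40.PE.O23
noncomputable def ck31_p : ℕ → Bool := fun i => ok (Nat.add 31000 i)
theorem ck31_c0 : allB (fun i => ck31_p (Nat.add 0 i)) 100 = true := by decide +kernel
theorem ck31_c1 : allB (fun i => ck31_p (Nat.add 100 i)) 100 = true := by decide +kernel
theorem ck31_c2 : allB (fun i => ck31_p (Nat.add 200 i)) 100 = true := by decide +kernel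
theorem ck31_c3 : allB (fun i => ck31_p (Nat.add 300 i)) 100 = true := by decide +kernel
theorem ck31_c4 : allB (fun i => ck31_p (Nat.add 400 i)) 100 = true := by decide +kernel
theorem ck31_c5 : allB (fun i => ck31_p (Nat.add 500 i)) 100 = true := by decide +kernel
theorem ck31_c6 : allB (fun i => ck31_p (Nat.add 600 i)) 71 = true := by decide +kernel
theorem ck31_a0 : ∀ u < 0, ck31_p u = true := allB_base
theorem ck31_a1 : ∀ u < 100, ck31_p u = true := allB_extend (p := ck31_p) ck31_a0 ck31_c0
theorem ck31_a2 : ∀ u < 200, ck31_p u = true := allB_extend (p := ck31_p) ck31_a1 ck31_c1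
theorem ck31_a3 : ∀ u < 300, ck31_p u = true := allB_extend (p := ck31_p) ck31_a2 ck31_c2
theorem ck31_a4 : ∀ u < 400, ck31_p u = true := allB_extend (p := ck31_p) ck31_a3 ck31_c3
theorem ck31_a5 : ∀ u < 500, ck31_p u = true := allB_extend (p := ck31_p) ck31_a4 ck31_c4
theorem ck31_a6 : ∀ u < 600, ck31_p u = true := allB_extend (p := ck31_p) ck31_a5 ck31_c5
theorem ck31_a7 : ∀ u < 671, ck31_p u = true := allB_extend (p := ck31_p) ck31_a6 ck31_c6
theorem ck31 : ∀ u, 31000 ≤ u → u < 31671 → ok u = true := by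
  intro u h1 h2
  have h3 := ck31_a7 (u - 31000) (by omega)
  have e : Nat.add 31000 (u - 31000) = u := by show 31000 + (u - 31000) = u; omega
  unfold ck31_p at h3
  rw [e] at h3; exact h3
end Cfsg.Agent.Lib.Helper40.PE.O23
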