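import Cfsg.Agent.Lib.Helper40.Out23.C0
import Cfsg.Agent.Lib.Helper40.Out23.C1
import Cfsg.Agent.Lib.Helper40.Out23.C2
import Cfsg.Agent.Lib.Helper40.Out23.C3
import Cfsg.Agent.Lib.Helper40.Out23.C4
import Cfsg.Agent.Lib.Helper40.Out23.C5
import Cfsg.Agent.Lib.Helper40.Out23.C6
import Cfsg.Agent.Lib.Helper40.Out23.C7
import Cfsg.Agent.Lib.Helper40.Out23.C8
import Cfsg.Agent.Lib.Helper40.Out23.C9
import Cfsg.Agent.Lib.Helper40.Out23.C10
import Cfsg.Agent.Lib.Helper40.Out23.C11
import Cfsg.Agent.Lib.Helper40.Out23.C12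
import Cfsg.Agent.Lib.Helper40.Out23.C13
import Cfsg.Agent.Lib.Helper40.Out23.C14
import Cfsg.Agent.Lib.Helper40.Out23.C15
import Cfsg.Agent.Lib.Helper40.Out23.C16
import Cfsg.Agent.Lib.Helper40.Out23.C17
import Cfsg.Agent.Lib.Helper40.Out23.C18
import Cfsg.Agent.Lib.Helper40.Out23.C19
import Cfsg.Agent.Lib.Helper40.Out23.C20
import Cfsg.Agent.Lib.Helper40.Out23.C21
import Cfsg.Agent.Lib.Helper40.Out23.C22
import Cfsg.Agent.Lib.Helper40.Out23.C23
import Cfsg.Agent.Lib.Helper40.Out23.C24
import Cfsg.Agent.Lib.Helper40.Out23.C25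
import Cfsg.Agent.Lib.Helper40.Out23.C26
import Cfsg.Agent.Lib.Helper40.Out23.C27
import Cfsg.Agent.Lib.Helper40.Out23.C28
import Cfsg.Agent.Lib.Helper40.Out23.C29
import Cfsg.Agent.Lib.Helper40.Out23.C30
import Cfsg.Agent.Lib.Helper40.Out23.C31
set_option autoImplicit false
set_option maxRecDepth 100000
namespace Cfsg.Agent.Lib.Helper40.PE.O23
theorem okAll : ∀ u, 0 ≤ u → u < 31671 → ok u = true := by
  intro u h1 h2
  by_cases c0 : u < 1000
  · exact ck0 u (by omega) c0
  by_cases c1 : u < 2000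
  · exact ck1 u (by omega) c1
  by_cases c2 : u < 3000
  · exact ck2 u (by omega) c2
  by_cases c3 : u < 4000
  · exact ck3 u (by omega) c3
  by_cases c4 : u < 5000
  · exact ck4 u (by omega) c4
  by_cases c5 : u < 6000
  · exact ck5 u (by omega) c5
  by_cases c6 : u < 7000
  · exact ck6 u (by omega) c6
  by_cases c7 : u < 8000
  · exact ck7 u (by omega) c7
  by_cases c8 : u < 9000
  · exact ck8 u (by omega) c8
  by_cases c9 : u < 10000
  · exact ck9 u (by omega) c9
  by_cases c10 : u < 11000
  · exact ck10 u (by omega) c10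
  by_cases c11 : u < 12000
  · exact ck11 u (by omega) c11
  by_cases c12 : u < 13000
  · exact ck12 u (by omega) c12
  by_cases c13 : u < 14000
  · exact ck13 u (by omega) c13
  by_cases c14 : u < 15000
  · exact ck14 u (by omega) c14
  by_cases c15 : u < 16000
  · exact ck15 u (by omega) c15
  by_cases c16 : u < 17000
  · exact ck16 u (by omega) c16
  by_cases c17 : u < 18000
  · exact ck17 u (by omega) c17
  by_cases c18 : u < 19000
  · exact ck18 u (by omega) c18
  by_cases c19 : u < 20000
  · exact ck19 u (by omega) c19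
  by_cases c20 : u < 21000
  · exact ck20 u (by omega) c20
  by_cases c21 : u < 22000
  · exact ck21 u (by omega) c21
  by_cases c22 : u < 23000
  · exact ck22 u (by omega) c22
  by_cases c23 : u < 24000
  · exact ck23 u (by omega) c23
  by_cases c24 : u < 25000
  · exact ck24 u (by omega) c24
  by_cases c25 : u < 26000
  · exact ck25 u (by omega) c25
  by_cases c26 : u < 27000
  · exact ck26 u (by omega) c26
  by_cases c27 : u < 28000
  · exact ck27 u (by omega) c27
  by_cases c28 : u < 29000
  · exact ck28 u (by omega) c28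
  by_cases c29 : u < 30000
  · exact ck29 u (by omega) c29
  by_cases c30 : u < 31000
  · exact ck30 u (by omega) c30
  exact ck31 u (by omega) h2
end Cfsg.Agent.Lib.Helper40.PE.O23
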