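/-
helper40: the facts on the presented group Fi23 and its action on the 31671 transpositions which
are used for the determination of its automorphisms.
-/
import Cfsg.Agent.S1697
import Cfsg.Agent.Lib.Helper40.PresTransp
import Cfsg.Agent.Lib.Helper40.OutTab

set_option autoImplicit false
set_option maxRecDepth 100000

namespace Cfsg.Agent.Lib.Helper40.PE.O23

open Cfsg.Agent.S1697

structure Ctx (ρ : Cfsg.Spor.Fi23 →* Equiv.Perm ℕ) : Prop where
  hρ : ∀ k < F23P.P.A, ρ (F23.s k) = PTab.sig F23P.good k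
  hbot : fixer ρ F23P.base = ⊥
  hcard : Nat.card Cfsg.Spor.Fi23 = 4089470473293004800
  hZ : ∀ z : Cfsg.Spor.Fi23, (∀ g, g * z = z * g) → z = 1
  hP : PTab.Pt ρ (F23.s 0) 29698
  hQ : ∀ g : Cfsg.Spor.Fi23, (F23.s 0 * (g * F23.s 0 * g⁻¹)) ^ 2 = 1 ∨
    (F23.s 0 * (g * F23.s 0 * g⁻¹)) ^ 3 = 1

theorem exists_ctx : Finite Cfsg.Spor.Fi23 ∧ ∃ ρ : Cfsg.Spor.Fi23 →* Equiv.Perm ℕ, Ctx ρ := by
  obtain ⟨hfin, hub⟩ := upper
  obtain ⟨ρ, hρ⟩ := F23.exists_rho (p := F23P.P) rfl F23P.good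
  obtain ⟨hcard, hbot⟩ := order_of_bounds hfin hub (F23P.lower hρ) (by norm_num)
  have htrans := F23P.trans hρ
  have hbN : ∀ b ∈ F23P.base, b < F23P.P.N := by decide +kernel
  have hZ := PTab.center_trivial F23P.good hρ hbot hbN F23.pre_top (by decide) (A' := 9)
    (by decide) F23P.fix0 F23P.mov htrans
  -- `H` centralises the transposition `t0`
  have hc : ∀ h ∈ Hs F23.s F23P.Sw, h * wp F23.s t0w = wp F23.s t0w * h := by
    intro h hh
    induction hh using Subgroup.closure_induction with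
    | mem x hx =>
      obtain ⟨w, hw, rfl⟩ := hx
      have key : ∀ w ∈ F23P.Sw, (∀ k ∈ w ++ t0w, k < F23P.P.A) ∧
          (∀ k ∈ t0w ++ w, k < F23P.P.A) ∧
          allL (fun b => Nat.beq (F23P.P.walk (w ++ t0w).reverse b)
            (F23P.P.walk (t0w ++ w).reverse b)) F23P.base = true := by decide +kernel
      obtain ⟨k1, k2, k3⟩ := key w hw
      have := PTab.wp_eq_of_base F23P.good hρ hbot hbN (w ++ t0w) (t0w ++ w) k1 k2 k3
      rwa [wp_append, wp_append] at this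
    | one => simp
    | mul x y _ _ hx hy => rw [mul_assoc, hy, ← mul_assoc, hx, mul_assoc]
    | inv x _ hx =>
      calc x⁻¹ * wp F23.s t0w = x⁻¹ * (wp F23.s t0w * x) * x⁻¹ := by group
        _ = x⁻¹ * (x * wp F23.s t0w) * x⁻¹ := by rw [hx]
        _ = wp F23.s t0w * x⁻¹ := by group
  have hgen := closure_conj_top F23.pre_top conj_all
  have hcov := L10.cov (s := F23.s) F23.s_inv F23.s_B (Hs F23.s F23P.Sw) (fun w hw => wp_mem_Hs _ hw)
  have hub' := card_quot_le_of_cover (H := Hs F23.s F23P.Sw) (N := 31671) _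
    (fun g => hcov g (by rw [F23.pre_top]; trivial))
  have hSw : ∀ w ∈ F23P.Sw, ∀ k ∈ w, k < F23P.P.A := by decide +kernel
  have hprim : MulAction.IsPreprimitive Cfsg.Spor.Fi23 (Cfsg.Spor.Fi23 ⧸ Hs F23.s F23P.Sw) :=
    rank3_prim (n1 := 28161) F23P.good hρ hSw hub' (by decide) (by decide)
      F23P.orb0 F23P.orb1 F23P.orb2 [9] [9, 7, 4, 2, 1, 0, 3, 1, 2, 4, 7, 9] (by decide) (by decide)
      F23P.root1 F23P.root2 (by decide) (by decide)
  obtain ⟨m0, -⟩ := PTab.orb_spec (s := F23.s) F23P.good hρ hSw (by decide) F23P.orb0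
  obtain ⟨-, t1⟩ := PTab.orb_spec (s := F23.s) F23P.good hρ hSw (by decide) F23P.orb1
  obtain ⟨-, t2⟩ := PTab.orb_spec (s := F23.s) F23P.good hρ hSw le_rfl F23P.orb2
  have hfix := fix_of_orb m0
  obtain ⟨hidx, hinj, hlt⟩ := index_of_bounds hub' hfix htrans
  have e1 : ρ (wp F23.s [9])⁻¹ 0 = 1 := by
    rw [PTab.rho_wp_inv F23P.good hρ [9] (by decide) 0 (by decide), F23P.root1]
  have e2 : ρ (wp F23.s [9, 7, 4, 2, 1, 0, 3, 1, 2, 4, 7, 9])⁻¹ 0 = 28161 := by
    rw [PTab.rho_wp_inv F23P.good hρ [9, 7, 4, 2, 1, 0, 3, 1, 2, 4, 7, 9] (by decide) 0 (by decide),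
      F23P.root2]
  have hdc := dc_of_rank3 hfix hinj hlt t1 t2 e1 e2
  -- word identities
  have widen : ∀ w : List ℕ, (∀ k ∈ w, k < F23P.P.A) →
      allL (fun b => Nat.beq (F23P.P.walk w.reverse b) (F23P.P.walk ([] : List ℕ).reverse b))
        F23P.base = true → wp F23.s w = 1 := fun w h1 h2 =>
    PTab.wp_eq_of_base F23P.good hρ hbot hbN w [] h1 (by simp) h2
  have ht : wp F23.s t0w * wp F23.s t0w = 1 := by
    rw [← wp_append]
    exact widen _ (by decide +kernel) (by decide +kernel)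
  have h3 : (wp F23.s t0w * ((wp F23.s [9])⁻¹ * wp F23.s t0w * (wp F23.s [9])⁻¹⁻¹)) ^ 3 = 1 := by
    rw [inv_inv, ← wp_reverse _ F23.s_inv, ← wp_append, ← wp_append, ← wp_append,
      ← wp_flatten_replicate]
    exact widen _ (by decide +kernel) (by decide +kernel)
  have h2 : (wp F23.s t0w * ((wp F23.s [9, 7, 4, 2, 1, 0, 3, 1, 2, 4, 7, 9])⁻¹ * wp F23.s t0w *
      (wp F23.s [9, 7, 4, 2, 1, 0, 3, 1, 2, 4, 7, 9])⁻¹⁻¹)) ^ 2 = 1 := by
    rw [inv_inv, ← wp_reverse _ F23.s_inv, ← wp_append, ← wp_append, ← wp_append,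
      ← wp_flatten_replicate]
    exact widen _ (by decide +kernel) (by decide +kernel)
  have hne : wp F23.s t0w ≠ 1 := by
    intro h
    have h5 : (⊤ : Subgroup Cfsg.Spor.Fi23) = ⊥ := by
      rw [← hgen, Subgroup.closure_eq_bot_iff]
      rintro _ ⟨a, rfl⟩
      rw [h]; simp
    have h6 : Nat.card Cfsg.Spor.Fi23 = 1 := by
      rw [← Nat.card_congr (Subgroup.topEquiv (G := Cfsg.Spor.Fi23)).toEquiv, h5]
      simp
    rw [hcard] at h6
    norm_num at h6
  have hHtop : Hs F23.s F23P.Sw ≠ ⊤ := by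
    intro h
    rw [h, Subgroup.index_top] at hidx
    norm_num at hidx
  have hC := centralizer_eq hc hHtop hZ hne
  have hT := transp_of_dc hc ht hdc h3 h2
  -- the point `0` and the transposition `t0`
  have hP0 : PTab.Pt ρ (wp F23.s t0w) 0 := by
    refine ⟨fun g => ⟨fun hg => ?_, fun hg => ?_⟩⟩
    · have h1 : ev hfix (g : _ ⧸ Hs F23.s F23P.Sw) = ev hfix ((1 : Cfsg.Spor.Fi23) : _ ⧸ _) := by
        rw [ev_mk, ev_mk, hg]; simp
      have h3 := QuotientGroup.eq.mp (hinj h1).symm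
      exact hc g (by simpa using h3)
    · apply hfix
      rw [← hC, Subgroup.mem_centralizer_singleton_iff]
      exact hg
  have es : wp F23.s pth * wp F23.s t0w * (wp F23.s pth)⁻¹ = F23.s 0 := by
    rw [t0w, wp_append, wp_cons, wp_reverse _ F23.s_inv]; group
  have ep : ρ (wp F23.s pth) 0 = 29698 := by
    rw [PTab.rho_wp_apply F23P.good hρ pth (by decide) 0 (by decide)]
    decide +kernel
  have hP := hP0.conj (wp F23.s pth)
  rw [es, ep] at hP
  refine ⟨hfin, ρ, hρ, hbot, hcard, hZ, hP, fun g => ?_⟩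
  apply hT
  · rw [← es]; exact isConj_iff.mpr ⟨_, rfl⟩
  · rw [← es]
    refine isConj_iff.mpr ⟨g * wp F23.s pth, ?_⟩
    group

end Cfsg.Agent.Lib.Helper40.PE.O23
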