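/-
helper40: every automorphism of the presented group Fi23 is inner.
-/
import Cfsg.Agent.Lib.Helper40.OutTransp2
import Cfsg.Agent.Lib.Helper40.Out23.Setup
import Cfsg.Agent.Lib.Helper40.Out23.All

set_option autoImplicit false
set_option maxRecDepth 100000

namespace Cfsg.Agent.Lib.Helper40.PE.O23

variable {ρ : Cfsg.Spor.Fi23 →* Equiv.Perm ℕ}

theorem hbN : ∀ b ∈ F23P.base, b < F23P.P.N := by decide +kernel

/-- word identities -/
theorem weq (C : Ctx ρ) (w w' : List ℕ) (h1 : ∀ k ∈ w, k < F23P.P.A)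
    (h2 : ∀ k ∈ w', k < F23P.P.A)
    (h3 : allL (fun b => Nat.beq (F23P.P.walk w.reverse b) (F23P.P.walk w'.reverse b))
      F23P.base = true) : wp F23.s w = wp F23.s w' :=
  PTab.wp_eq_of_base F23P.good C.hρ C.hbot hbN w w' h1 h2 h3

theorem wne (C : Ctx ρ) (w : List ℕ) (h1 : ∀ k ∈ w, k < F23P.P.A) (x : ℕ) (hx : x < F23P.P.N)
    (h3 : Nat.beq (F23P.P.walk w.reverse x) x = false) : wp F23.s w ≠ 1 := by
  intro h
  have e := PTab.rho_wp_apply F23P.good C.hρ w h1 x hx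
  rw [h, map_one, Equiv.Perm.one_apply] at e
  rw [← e, (beq_iff' (a := x) (b := x)).mpr rfl] at h3
  cases h3

theorem b_order (C : Ctx ρ) : orderOf (wp F23.s bw) = 11 := by
  have : Fact (Nat.Prime 11) := ⟨by norm_num⟩
  apply orderOf_eq_prime
  · rw [← wp_flatten_replicate]
    exact weq C _ [] (by decide +kernel) (by simp) (by decide +kernel)
  · exact wne C bw (by decide) 1 (by decide) (by decide +kernel)

theorem wp_selw (bw tw : List ℕ) (c : ℕ) :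
    wp F23.s (OutT.selw bw tw c) = OutT.val (wp F23.s bw) (wp F23.s tw) c := by
  match c with
  | 0 => rfl
  | 1 => exact wp_reverse _ F23.s_inv bw
  | _ + 2 => rfl

theorem ev_eq_wp (bw tw : List ℕ) (W : List ℕ) :
    OutT.ev (wp F23.s bw) (wp F23.s tw) W = wp F23.s (OutT.evw bw tw W) := by
  induction W with
  | nil => rfl
  | cons c W ih => rw [OutT.ev, OutT.evw, wp_append, ih, wp_selw]

theorem gen (C : Ctx ρ) :
    Subgroup.closure {wp F23.s bw, wp F23.s (Tw 0 cy)} = (⊤ : Subgroup Cfsg.Spor.Fi23) := by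
  have key : ∀ k < 10,
      (∀ i ∈ OutT.evw bw (Tw 0 cy) (GW.getD k []) ++ Tw 0 cy ++
        (OutT.evw bw (Tw 0 cy) (GW.getD k [])).reverse, i < F23P.P.A) ∧
      allL (fun b => Nat.beq (F23P.P.walk [k].reverse b)
        (F23P.P.walk (OutT.evw bw (Tw 0 cy) (GW.getD k []) ++ Tw 0 cy ++
        (OutT.evw bw (Tw 0 cy) (GW.getD k [])).reverse).reverse b)) F23P.base = true := by
    decide +kernel
  rw [eq_top_iff, ← F23.pre_top, pre, Subgroup.closure_le]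
  rintro _ ⟨k, hk, rfl⟩
  obtain ⟨k1, k2⟩ := key k hk
  have e := weq C [k] _ (by intro i hi; rw [List.mem_singleton.1 hi]; exact hk) k1 k2
  rw [wp_append, wp_append, wp_reverse _ F23.s_inv, ← ev_eq_wp, wp_cons, wp_nil, mul_one] at e
  rw [e]
  have h1 := OutT.ev_mem (wp F23.s bw) (wp F23.s (Tw 0 cy)) (GW.getD k [])
  exact Subgroup.mul_mem _ (Subgroup.mul_mem _ h1 (Subgroup.subset_closure (Or.inr rfl)))
    (Subgroup.inv_mem _ h1)

theorem H1 (C : Ctx ρ) : ∀ m, 0 < m → m < 11 →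
    ∃ x : Cfsg.Spor.Fi23, x * wp F23.s bw ^ m * x⁻¹ = wp F23.s bw := by
  apply OutT.H1_of_primroot (x0 := wp F23.s x0w) (r := 2) (b_order C)
  · rw [← wp_reverse _ F23.s_inv, ← wp_append, ← wp_append, ← wp_flatten_replicate]
    exact weq C _ _ (by decide +kernel) (by decide +kernel) (by decide +kernel)
  · intro m h0 h1
    interval_cases m
    exacts [⟨0, rfl⟩, ⟨1, rfl⟩, ⟨8, rfl⟩, ⟨2, rfl⟩, ⟨4, rfl⟩, ⟨9, rfl⟩, ⟨7, rfl⟩, ⟨3, rfl⟩,
      ⟨6, rfl⟩, ⟨5, rfl⟩]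

theorem conj_of_Tw (c c' : List ℕ) :
    ∃ g : Cfsg.Spor.Fi23, wp F23.s (Tw 0 c') = g * wp F23.s (Tw 0 c) * g⁻¹ := by
  refine ⟨wp F23.s c' * (wp F23.s c)⁻¹, ?_⟩
  rw [wp_Tw F23.s_inv, wp_Tw F23.s_inv]; group

theorem Q (C : Ctx ρ) (g : Cfsg.Spor.Fi23) :
    (wp F23.s (Tw 0 cy) * (g * wp F23.s (Tw 0 cy) * g⁻¹)) ^ 2 = 1 ∨
      (wp F23.s (Tw 0 cy) * (g * wp F23.s (Tw 0 cy) * g⁻¹)) ^ 3 = 1 := by
  have e : wp F23.s (Tw 0 cy) * (g * wp F23.s (Tw 0 cy) * g⁻¹) = wp F23.s cy * (F23.s 0 *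
      (((wp F23.s cy)⁻¹ * g * wp F23.s cy) * F23.s 0 * ((wp F23.s cy)⁻¹ * g * wp F23.s cy)⁻¹)) *
      (wp F23.s cy)⁻¹ := by
    rw [wp_Tw F23.s_inv]; group
  rw [e, conj_pow, conj_pow]
  rcases C.hQ ((wp F23.s cy)⁻¹ * g * wp F23.s cy) with h | h
  · left; rw [h]; group
  · right; rw [h]; group

theorem t_sq : wp F23.s (Tw 0 cy) * wp F23.s (Tw 0 cy) = 1 := by
  rw [wp_Tw F23.s_inv]
  calc wp F23.s cy * F23.s 0 * (wp F23.s cy)⁻¹ * (wp F23.s cy * F23.s 0 * (wp F23.s cy)⁻¹)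
      = wp F23.s cy * (F23.s 0 * F23.s 0) * (wp F23.s cy)⁻¹ := by group
    _ = 1 := by rw [F23.s_inv]; group

theorem t_ne (C : Ctx ρ) : wp F23.s (Tw 0 cy) ≠ 1 :=
  wne C _ (by decide) 0 (by decide) (by decide +kernel)

theorem d1b (C : Ctx ρ) : wp F23.s (Tw 0 c1) * wp F23.s bw = wp F23.s bw * wp F23.s (Tw 0 c1) := by
  rw [← wp_append, ← wp_append]
  exact weq C _ _ (by decide +kernel) (by decide +kernel) (by decide +kernel)

theorem d2b (C : Ctx ρ) : wp F23.s (Tw 0 c2) * wp F23.s bw = wp F23.s bw * wp F23.s (Tw 0 c2) := by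
  rw [← wp_append, ← wp_append]
  exact weq C _ _ (by decide +kernel) (by decide +kernel) (by decide +kernel)

theorem d12 (C : Ctx ρ) :
    wp F23.s (Tw 0 c1) * wp F23.s (Tw 0 c2) = wp F23.s (Tw 0 c2) * wp F23.s (Tw 0 c1) := by
  rw [← wp_append, ← wp_append]
  exact weq C _ _ (by decide +kernel) (by decide +kernel) (by decide +kernel)

theorem wit (C : Ctx ρ) : ∃ g : Cfsg.Spor.Fi23,
    ((wp F23.s (Tw 0 c1) * wp F23.s (Tw 0 c2)) *
      (g * (wp F23.s (Tw 0 c1) * wp F23.s (Tw 0 c2)) * g⁻¹)) ^ 2 ≠ 1 ∧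
    ((wp F23.s (Tw 0 c1) * wp F23.s (Tw 0 c2)) *
      (g * (wp F23.s (Tw 0 c1) * wp F23.s (Tw 0 c2)) * g⁻¹)) ^ 3 ≠ 1 := by
  refine ⟨wp F23.s [2, 9], ?_, ?_⟩
  · rw [← wp_reverse _ F23.s_inv, ← wp_append, ← wp_append, ← wp_append, ← wp_append,
      ← wp_flatten_replicate]
    exact wne C _ (by decide +kernel) 0 (by decide) (by decide +kernel)
  · rw [← wp_reverse _ F23.s_inv, ← wp_append, ← wp_append, ← wp_append, ← wp_append,
      ← wp_flatten_replicate]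
    exact wne C _ (by decide +kernel) 0 (by decide) (by decide +kernel)

/-- the words of the four elements of the complement of `⟨b⟩` in its centraliser -/
def ew : ℕ → List ℕ
  | 0 => []
  | 1 => Tw 0 c1
  | 2 => Tw 0 c2
  | _ => Tw 0 c1 ++ Tw 0 c2

def uw (a j : ℕ) : List ℕ := (List.replicate a bw).flatten ++ ew j

theorem SV_eq : SV = (List.range 11).flatMap fun a => (List.range 4).map fun j =>
    F23P.P.walk (uw a j ++ cy).reverse 29698 := by decide +kernel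

theorem uw_letters : ∀ a < 11, ∀ j < 4, ∀ k ∈ uw a j ++ cy, k < F23P.P.A := by decide +kernel

theorem K (C : Ctx ρ) (g : Cfsg.Spor.Fi23)
    (hg : ∀ W, OutT.tst (wp F23.s bw) (wp F23.s (Tw 0 cy)) W ↔
      OutT.tst (wp F23.s bw) (g * wp F23.s (Tw 0 cy) * g⁻¹) W) :
    ∃ (a : ℕ) (e : Cfsg.Spor.Fi23), (e = 1 ∨ e = wp F23.s (Tw 0 c1) ∨ e = wp F23.s (Tw 0 c2) ∨
        e = wp F23.s (Tw 0 c1) * wp F23.s (Tw 0 c2)) ∧
      g * wp F23.s (Tw 0 cy) * g⁻¹
        = (wp F23.s bw ^ a * e) * wp F23.s (Tw 0 cy) * (wp F23.s bw ^ a * e)⁻¹ := by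
  have hbr : bwr = bw.reverse := by decide
  have ey : ρ (wp F23.s cy) 29698 = 1042 := by
    rw [PTab.rho_wp_apply F23P.good C.hρ cy (by decide) _ (by decide)]; decide +kernel
  have htrue : ∀ Wb ∈ Ws,
      F23P.P.tstB bw.reverse bw (Tw 0 cy) (ρ (wp F23.s cy) 29698) Wb.1 = Wb.2 := by
    rw [ey]; decide +kernel
  have hall : ∀ y < F23P.P.N, F23P.P.candOK lt 29698 0 49 bw.reverse bw Ws SV y = true := by
    intro y hy; rw [← hbr]; exact okAll y (Nat.zero_le _) hy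
  have et : g * wp F23.s (Tw 0 cy) * g⁻¹
      = (g * wp F23.s cy) * F23.s 0 * (g * wp F23.s cy)⁻¹ := by
    rw [wp_Tw F23.s_inv]; group
  have hm := PTab.cand_mem F23P.good C.hρ F23.s_inv F23.pre_top C.hP (by decide) (by decide)
    (bw := bw) (cy := cy) (by decide) (by decide) htrue hall (g * wp F23.s cy)
    (by intro W; rw [← et]; exact hg W)
  rw [SV_eq] at hm
  simp only [List.mem_flatMap, List.mem_map, List.mem_range] at hm
  obtain ⟨a, ha, j, hj, h⟩ := hm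
  rw [← PTab.rho_wp_apply F23P.good C.hρ _ (uw_letters a ha j hj) _ (by decide)] at h
  have h2 := C.hP.conj_eq h
  refine ⟨a, wp F23.s (ew j), ?_, ?_⟩
  · interval_cases j
    · left; rfl
    · right; left; rfl
    · right; right; left; rfl
    · right; right; right; exact wp_append _ _ _
  · rw [et, ← h2, wp_append, uw, wp_append, wp_flatten_replicate, wp_Tw F23.s_inv]; group

theorem inner (α : MulAut Cfsg.Spor.Fi23) : ∃ u : Cfsg.Spor.Fi23, ∀ x, α x = u * x * u⁻¹ := by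
  obtain ⟨hfin, ρ, C⟩ := exists_ctx
  have : Fact (Nat.Prime 11) := ⟨by norm_num⟩
  exact OutT.inner_of_setup2 11 (by norm_num) (wp F23.s bw) (wp F23.s (Tw 0 cy))
    (wp F23.s (Tw 0 c1)) (wp F23.s (Tw 0 c2)) (b_order C) (by rw [C.hcard]; norm_num) (gen C) C.hZ
    (H1 C) (Q C) (conj_of_Tw cy c1) (conj_of_Tw cy c2) (d1b C) (d2b C) (d12 C) t_sq (t_ne C)
    (wit C) (K C) α

end Cfsg.Agent.Lib.Helper40.PE.O23
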